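import Cfsg.Agent.Lib.KC.Fin
import Cfsg.Agent.Lib.KC.T9

set_option autoImplicit false
set_option maxRecDepth 100000

namespace Cfsg.Agent.KC.T9

def sv : List (ℕ × List En) := [
(240, [(3, 1, 3), (4, 1, 8), (4, 1, 8), (4, 1, 8), (10, 1, 10), (5, 1, 10), (2, 1, 16), (2, 1, 40)]),
(240, [(3, 1, 3), (4, 1, 8), (4, 2, 8), (10, 1, 10), (5, 1, 10), (2, 1, 16), (2, 1, 40)]),
(240, [(3, 1, 3), (8, 2, 8), (4, 1, 8), (10, 1, 10), (5, 1, 10), (2, 1, 16), (2, 1, 40)]),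
(336, [(6, 1, 6), (3, 1, 6), (7, 1, 7), (8, 2, 8), (4, 1, 8), (2, 1, 12), (2, 1, 16)]),
(504, [(7, 3, 7), (2, 1, 8), (3, 1, 9), (3, 1, 9), (3, 1, 9), (3, 1, 9)]),
(504, [(7, 3, 7), (2, 1, 8), (9, 3, 9), (3, 1, 9)]),
(720, [(4, 1, 4), (5, 1, 5), (8, 2, 8), (3, 1, 9), (4, 2, 16), (2, 1, 16)]),
(720, [(5, 1, 5), (4, 1, 8), (4, 1, 8), (4, 1, 8), (4, 1, 8), (4, 1, 8), (3, 1, 9), (2, 1, 16)]),
(720, [(5, 1, 5), (4, 1, 8), (4, 1, 8), (4, 1, 8), (4, 2, 8), (3, 1, 9), (2, 1, 16)]),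
(720, [(5, 1, 5), (4, 1, 8), (4, 2, 8), (4, 2, 8), (3, 1, 9), (2, 1, 16)]),
(720, [(5, 1, 5), (8, 2, 8), (4, 1, 8), (4, 1, 8), (4, 1, 8), (3, 1, 9), (2, 1, 16)]),
(720, [(5, 1, 5), (8, 2, 8), (4, 1, 8), (4, 2, 8), (3, 1, 9), (2, 1, 16)]),
(720, [(5, 1, 5), (8, 2, 8), (8, 2, 8), (4, 1, 8), (3, 1, 9), (2, 1, 16)]),
(720, [(5, 1, 5), (8, 4, 8), (4, 1, 8), (3, 1, 9), (2, 1, 16)]),
(960, [(3, 1, 3), (5, 2, 5), (4, 1, 8), (2, 1, 16), (4, 1, 32), (4, 1, 32), (2, 1, 64)]),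
(960, [(3, 1, 3), (5, 2, 5), (4, 1, 8), (2, 1, 16), (4, 2, 32), (2, 1, 64)]),
(960, [(3, 1, 3), (5, 2, 5), (4, 1, 8), (4, 1, 16), (2, 1, 32), (2, 1, 32), (2, 1, 64)]),
(960, [(3, 1, 3), (5, 2, 5), (4, 1, 16), (4, 1, 16), (4, 1, 16), (2, 1, 16), (2, 1, 64)]),
(960, [(3, 1, 3), (5, 2, 5), (4, 1, 16), (4, 2, 16), (2, 1, 16), (2, 1, 64)]),
(960, [(3, 1, 3), (5, 2, 5), (8, 1, 8), (2, 1, 16), (4, 1, 32), (4, 1, 32), (2, 1, 64)]),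
(960, [(3, 1, 3), (5, 2, 5), (8, 1, 8), (2, 1, 16), (4, 2, 32), (2, 1, 64)]),
(960, [(3, 1, 3), (5, 2, 5), (8, 1, 8), (4, 1, 16), (2, 1, 32), (2, 1, 32), (2, 1, 64)]),
(960, [(3, 1, 3), (5, 2, 5), (8, 1, 16), (4, 1, 16), (4, 1, 16), (2, 1, 16), (2, 1, 64)]),
(960, [(3, 1, 3), (5, 2, 5), (8, 1, 16), (4, 2, 16), (2, 1, 16), (2, 1, 64)]),
(960, [(3, 1, 3), (5, 2, 5), (8, 1, 16), (8, 1, 16), (4, 1, 16), (2, 1, 16), (2, 1, 64)]),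
(960, [(3, 1, 3), (5, 2, 5), (8, 2, 16), (4, 1, 16), (2, 1, 16), (2, 1, 64)]),
(1092, [(6, 1, 6), (3, 1, 6), (7, 3, 7), (2, 1, 12), (13, 2, 13)]),
(2520, [(4, 1, 4), (5, 1, 5), (7, 2, 7), (3, 1, 9), (6, 1, 12), (2, 1, 24), (3, 1, 36)]),
(15360, [(3, 1, 3), (5, 2, 5), (4, 1, 8), (4, 1, 8), (2, 1, 128), (2, 1, 128), (2, 1, 1024)]),
(15360, [(3, 1, 3), (5, 2, 5), (4, 1, 8), (4, 1, 16), (4, 1, 16), (2, 1, 64), (2, 1, 1024)]),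
(15360, [(3, 1, 3), (5, 2, 5), (4, 1, 8), (4, 2, 16), (2, 1, 64), (2, 1, 1024)]),
(15360, [(3, 1, 3), (5, 2, 5), (4, 1, 8), (8, 1, 16), (4, 1, 16), (2, 1, 64), (2, 1, 1024)]),
(15360, [(3, 1, 3), (5, 2, 5), (4, 2, 8), (2, 1, 128), (2, 1, 128), (2, 1, 1024)]),
(15360, [(3, 1, 3), (5, 2, 5), (8, 1, 8), (4, 1, 8), (2, 1, 128), (2, 1, 128), (2, 1, 1024)]),
(15360, [(3, 1, 3), (5, 2, 5), (8, 1, 8), (4, 1, 16), (4, 1, 16), (2, 1, 64), (2, 1, 1024)]),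
(15360, [(3, 1, 3), (5, 2, 5), (8, 1, 8), (4, 2, 16), (2, 1, 64), (2, 1, 1024)]),
(15360, [(3, 1, 3), (5, 2, 5), (8, 1, 8), (8, 1, 16), (4, 1, 16), (2, 1, 64), (2, 1, 1024)]),
(20160, [(5, 2, 5), (7, 2, 7), (4, 1, 8), (3, 1, 9), (4, 1, 16), (2, 1, 64)]),
(20160, [(5, 2, 5), (7, 2, 7), (8, 1, 8), (3, 1, 9), (4, 1, 16), (2, 1, 64)])]

/-- one part of the search -/
def Part (i j : ℕ) : Prop := go tabs (finB sv) (skipH 4 i 2 j) 11 (st0 8) = true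

end Cfsg.Agent.KC.T9
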